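import Cfsg.Agent.M23Gen.Encode

/-!
The generators of M23 as image lists, generation witnesses, and Sylow data (found by a search).
-/

set_option autoImplicit false

namespace CfsgLib.M23Gen

open Cfsg

/-- The shift `x ↦ x + 1`, fixing the extra point. -/
def shift : Equiv.Perm GolayPt := Equiv.optionCongr (Equiv.addRight (1 : ZMod 23))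

def shiftL : List ℕ := [1, 2, 3, 4, 5, 6, 7, 8, 9, 10, 11, 12, 13, 14, 15, 16, 17, 18, 19, 20, 21, 22, 0, 23]
def shiftIL : List ℕ := [22, 0, 1, 2, 3, 4, 5, 6, 7, 8, 9, 10, 11, 12, 13, 14, 15, 16, 17, 18, 19, 20, 21, 23]
def cubeL : List ℕ := [0, 18, 6, 3, 2, 21, 1, 5, 16, 12, 7, 19, 8, 9, 17, 15, 13, 11, 4, 22, 10, 20, 14, 23]
def cubeIL : List ℕ := [0, 6, 4, 3, 18, 7, 2, 10, 12, 13, 20, 17, 9, 16, 22, 15, 8, 14, 1, 11, 21, 5, 19, 23]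

theorem enc_shift : Enc shift shiftL := by decide +kernel
theorem enc_cube : Enc cubeTwist cubeL := by decide +kernel
theorem enc_shiftI : Enc shift⁻¹ shiftIL := enc_shift.inv rfl (by decide +kernel)
theorem enc_cubeI : Enc cubeTwist⁻¹ cubeIL := enc_cube.inv rfl (by decide +kernel)

/-- Letters of words in the two generators and their inverses. -/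
noncomputable def genP : ℕ → Equiv.Perm GolayPt
  | 0 => shift
  | 1 => shift⁻¹
  | 2 => cubeTwist
  | _ => cubeTwist⁻¹

def genL : ℕ → List ℕ
  | 0 => shiftL
  | 1 => shiftIL
  | 2 => cubeL
  | _ => cubeIL

theorem enc_gen : ∀ i, Enc (genP i) (genL i)
  | 0 => enc_shift
  | 1 => enc_shiftI
  | 2 => enc_cube
  | _ + 3 => enc_cubeI

/-- A generation witness: two words for `x`, `y`, and words in `x`, `y` for the generators. -/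
structure Wit where
  p : ℕ
  q : ℕ
  r : ℕ
  wx : List ℕ
  wy : List ℕ
  wt : List ℕ
  wc : List ℕ

def witnesses : List Wit := [
  ⟨2, 5, 11, [2, 2, 1, 3, 1, 3, 1, 2, 2], [0, 0, 2, 1, 2, 0, 0, 0, 2],
    [3, 0, 2, 2, 0, 3, 0, 3, 3, 0, 3, 0, 3, 0, 2, 0, 2, 0, 3, 3, 0, 2, 2, 0, 3, 0], [3, 0, 2, 2, 0, 2, 0, 2, 0, 3, 0, 2, 0, 2, 0, 2, 0, 2, 0, 3, 0, 2, 0, 3, 0, 3, 3, 0]⟩,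
  ⟨2, 5, 23, [1, 3, 1, 3, 1, 3], [2, 0, 3, 0, 0],
    [0, 3, 0, 3, 0, 3, 0, 3, 3, 0, 3, 0, 2, 0, 2, 0, 2, 2, 0, 2, 0, 2], [0, 3, 0, 3, 0, 2, 0, 2, 2, 0, 2, 0, 3, 0, 3, 0, 2, 2, 0, 3, 0, 2, 2, 0, 3, 0, 3]⟩,
  ⟨2, 7, 7, [1, 3, 1, 3, 1, 3], [2, 0, 3, 1, 1, 1, 1, 3],
    [2, 0, 2, 0, 3, 3, 0, 2, 2, 0, 2, 2, 0, 3, 0, 3, 3, 0, 3, 0, 2, 0, 2, 0, 3], [2, 0, 3, 3, 0, 2, 2, 2, 0, 2, 0, 2, 2, 0, 2, 0, 3, 0, 3, 3, 0, 2, 2]⟩,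
  ⟨2, 7, 11, [1, 1, 3, 1, 3, 1, 3, 0], [3, 1, 2, 0, 2, 1, 3, 3],
    [0, 3, 3, 3, 0, 3, 3, 0, 2, 0, 3, 3, 0, 2, 2, 0, 2, 0], [0, 2, 0, 2, 2, 0, 2, 0, 2, 0, 3, 0, 3, 0, 3, 3, 0, 3, 3, 0, 3, 0, 3, 0]⟩,
  ⟨2, 7, 23, [1, 1, 3, 1, 3, 1, 3, 0], [1, 2, 1, 2, 1, 3, 0, 3, 3],
    [0, 3, 3, 0, 2, 0, 3, 3, 0, 3, 0, 3, 0, 2, 2, 2, 0, 2, 0, 3, 3, 3, 0, 3], [3, 3, 0, 2, 0, 2, 2, 2, 0, 2, 2, 2, 0, 3, 0, 3, 0, 3, 0, 3, 0, 2, 2]⟩,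
  ⟨2, 11, 11, [0, 2, 0, 2, 0, 2], [1, 1, 2, 2, 1, 2, 1, 3, 0],
    [2, 2, 0, 3, 3, 3, 0, 2, 0, 3, 0, 2, 0, 2, 0, 2, 0, 3, 3, 3, 3], [0, 2, 0, 2, 2, 0, 2, 2, 0, 2, 2, 2, 2, 2, 0, 2, 0, 2, 2, 0, 3, 3]⟩,
  ⟨2, 11, 23, [0, 0, 2, 0, 2, 0, 2, 1], [2, 1, 2, 1, 3, 0, 2, 1],
    [0, 2, 0, 2, 0, 2, 2, 2, 2, 0, 2, 0, 2, 2, 0, 3, 0, 3, 3, 0, 2], [0, 3, 0, 3, 3, 3, 0, 3, 0, 3, 3, 3, 0, 2, 0, 2, 0, 3, 3, 3, 0, 3, 0, 3]⟩,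
  ⟨2, 23, 23, [2, 2, 1, 3, 1, 3, 1, 2, 2], [1, 2, 1, 2, 2, 0, 3, 3, 1],
    [0, 2, 2, 2, 0, 3, 0, 3, 0, 3, 0, 2, 2, 2, 0, 3, 0, 3, 0, 3, 0, 2], [0, 2, 2, 0, 2, 0, 2, 2, 2, 0, 3, 3, 0, 3, 3, 3, 3, 0, 2, 2, 2, 2, 0, 3]⟩,
  ⟨3, 3, 11, [1, 2, 0, 0, 3, 1, 2, 1, 1], [3, 0, 0, 2, 2, 0, 3, 0, 2],
    [1, 3, 0, 2, 1, 3, 1, 3, 1, 3, 1, 2, 0, 2, 0, 3, 0, 3, 1, 3, 0, 3], [0, 3, 1, 3, 0, 2, 1, 2, 0, 2, 1, 2, 0, 2, 1, 3, 1, 3, 0, 3, 1]⟩,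
  ⟨3, 3, 23, [3, 0, 0, 0, 3, 3, 0, 2, 0], [1, 3, 0, 0, 0, 3, 0, 2, 1],
    [0, 2, 1, 2, 0, 2, 0, 3, 0, 2, 1, 2, 0, 2, 0, 2, 0, 2, 1, 3, 1, 3, 0, 3], [1, 2, 1, 2, 1, 2, 0, 3, 1, 2, 0, 3, 0, 3, 1, 2, 1, 2, 1, 3, 1, 3, 0]⟩,
  ⟨3, 5, 5, [3, 0, 2, 1, 2, 2, 1, 2, 0], [1, 3, 1, 1, 3, 0, 3, 3, 0],
    [0, 3, 1, 2, 1, 2, 2, 1, 2, 2, 0, 3, 0, 2, 2, 1, 2, 2], [0, 3, 0, 2, 0, 3, 3, 1, 3, 3, 1, 3, 1, 2, 1, 3, 0]⟩,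
  ⟨3, 5, 7, [0, 2, 1, 1, 1, 2, 0, 3, 3], [1, 1, 3, 0, 3, 1, 3, 1, 1],
    [0, 3, 0, 3, 0, 2, 1, 2, 2, 0, 3, 1, 2, 1, 2, 2, 0, 3], [1, 3, 0, 2, 0, 2, 1, 2, 2, 1, 3, 0, 3, 0, 2, 0, 2, 0, 3]⟩,
  ⟨3, 5, 11, [3, 3, 0, 3, 1, 2, 1, 3, 0], [3, 0, 0, 2, 1, 2, 0, 0],
    [2, 0, 2, 0, 3, 3, 0, 2, 1, 3, 1, 2, 0, 3, 3, 0], [3, 0, 3, 0, 3, 0, 2, 1, 2, 0, 2, 0, 3, 1, 2, 2]⟩,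
  ⟨3, 5, 23, [1, 3, 1, 1, 1, 2, 1, 3, 0], [3, 3, 1, 2, 1, 2, 0, 0, 0],
    [0, 3, 3, 1, 3, 3, 0, 3, 1, 3, 0, 3, 3, 0, 3, 3], [0, 2, 1, 3, 1, 2, 2, 1, 2, 0, 3, 3, 0, 3, 0, 2, 0, 2, 2]⟩,
  ⟨3, 7, 7, [0, 3, 1, 3, 1, 1], [1, 2, 1, 3, 0, 2, 1, 1, 1],
    [3, 1, 2, 0, 3, 1, 2, 0, 3, 0, 3, 1, 2, 0, 3, 1], [0, 3, 0, 2, 1, 2, 2, 1, 3, 3, 1, 3, 3, 1, 2, 2, 1]⟩,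
  ⟨3, 7, 11, [2, 2, 1, 2, 0, 3, 0, 2, 1], [0, 0, 3, 1, 3, 1, 3, 0, 3],
    [0, 3, 3, 0, 3, 3, 1, 3, 1, 2, 1, 3, 0, 2, 0, 3, 0], [1, 2, 1, 2, 0, 2, 0, 3, 3, 1, 2, 1, 2, 0, 2, 0, 2, 0]⟩,
  ⟨3, 7, 23, [0, 0, 3, 1, 2, 2, 1, 3, 0], [2, 0, 3, 1, 1, 1, 1, 1, 3],
    [2, 2, 2, 0, 3, 1, 3, 3, 0, 2, 1, 3, 3], [2, 0, 3, 1, 3, 3, 3, 0, 3, 0, 3, 3, 0, 2, 2, 1]⟩,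
  ⟨3, 11, 11, [2, 0, 0, 3, 1, 2, 1, 1, 1], [0, 0, 3, 0, 2, 0, 2, 2],
    [0, 3, 0, 2, 2, 2, 1, 2, 1, 2, 2, 1, 2, 2, 2, 0], [0, 3, 3, 0, 3, 0, 3, 1, 3, 3, 3, 0, 2, 2, 1, 2, 0]⟩,
  ⟨3, 11, 23, [3, 0, 3, 1, 3, 1, 1, 2], [3, 1, 2, 0, 3, 0, 0],
    [3, 3, 0, 2, 0, 2, 2, 0, 3, 0, 3, 1, 3], [2, 1, 3, 3, 0, 2, 1, 3, 0, 2, 2, 0, 3, 3, 0]⟩,
  ⟨3, 23, 23, [3, 1, 2, 1, 3, 0, 2, 0, 0], [3, 3, 1, 3, 0, 0, 0, 3],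
    [1, 3, 1, 2, 0, 2, 0, 3, 3, 1, 2, 0, 3, 3, 0, 2], [0, 2, 2, 2, 0, 2, 1, 2, 1, 2, 2, 2, 2, 0, 3, 0, 3, 3]⟩,
  ⟨5, 5, 5, [0, 0, 0, 0, 0, 3, 1, 1], [3, 3, 1, 3, 1, 3],
    [2, 1, 3, 0, 0, 2, 1, 2, 2, 1, 3, 1, 3, 3, 1], [3, 0, 3, 3, 1, 2, 1, 2, 1, 2, 2, 1, 2, 2, 0, 2]⟩,
  ⟨5, 5, 7, [3, 1, 1, 2, 0, 0, 2], [2, 0, 3, 0, 2, 0, 3, 1, 3],
    [1, 3, 0, 3, 1, 3, 1, 2, 0, 0, 2, 0, 2, 0], [0, 3, 1, 3, 0, 3, 3, 0, 3, 1, 3, 0, 3, 0, 2, 1]⟩,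
  ⟨5, 5, 11, [3, 1, 2, 0, 0, 3], [0, 2, 2, 0, 2, 0, 0, 2],
    [1, 2, 0, 0, 2, 2, 0, 2, 0, 3, 0, 3, 0, 2, 2], [1, 3, 1, 1, 2, 1, 2, 0, 3, 0, 2, 1, 3, 3]⟩,
  ⟨5, 5, 23, [2, 0, 2, 1, 3], [0, 2, 1, 3, 3, 0, 2, 1, 2],
    [0, 0, 2, 1, 3, 0, 0, 2, 0, 3, 0, 0, 2, 1, 2, 0, 3], [3, 0, 2, 0, 3, 3, 1, 2, 1, 3, 1, 1]⟩,
  ⟨5, 7, 7, [0, 0, 3, 0, 0, 0, 0, 2], [3, 3, 1, 3, 3, 0, 0, 2],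
    [0, 2, 2, 1, 2, 2, 0, 3, 0, 2, 2, 1, 2, 2, 1, 1], [2, 0, 3, 0, 3, 3, 3, 0, 2, 0, 2, 1, 3, 3, 1, 3]⟩,
  ⟨5, 7, 11, [3, 3, 0, 0, 0, 2], [0, 0, 0, 2, 0, 0, 2, 1],
    [1, 1, 3, 1, 3, 0, 3, 1, 2, 0, 2, 0, 3, 0, 3, 3], [0, 2, 1, 3, 0, 3, 1, 3, 1, 1, 2, 0, 2, 1, 3, 0]⟩,
  ⟨5, 7, 23, [1, 1, 2, 2, 1, 3, 0], [0, 2, 0, 0, 2, 0, 2],
    [3, 0, 2, 0, 3, 0, 0, 2, 1, 2, 1, 3, 1, 2], [0, 2, 0, 2, 1, 1, 3, 0, 3, 3, 0, 0, 3, 0]⟩,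
  ⟨5, 11, 11, [0, 3, 0, 2, 0, 3, 1], [0, 2, 2, 0, 0, 3, 0, 2],
    [0, 3, 1, 2, 2, 1, 1, 2, 0, 2, 1, 3, 1, 3], [1, 2, 0, 2, 1, 3, 3, 1, 1, 3, 1, 1, 2, 0, 3, 0]⟩,
  ⟨5, 11, 23, [1, 1, 2, 1], [3, 1, 2, 0, 0, 0, 2, 0],
    [1, 2, 0, 2, 1, 3, 0, 3, 0, 3, 0, 3, 1, 3], [2, 2, 2, 0, 2, 1, 1, 2, 1, 1, 2, 1, 3, 3]⟩,
  ⟨5, 23, 23, [3, 1, 3, 1, 3, 3], [0, 2, 0, 2, 0, 0, 0],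
    [0, 2, 1, 3, 0, 0, 2, 0, 2, 2, 2, 2, 2, 1], [0, 2, 1, 2, 0, 2, 2, 1, 3, 1, 1, 2, 2, 1, 2]⟩,
  ⟨7, 7, 7, [0, 2, 1, 1, 2, 1], [0, 3, 1, 2, 1, 3, 1, 3, 3],
    [0, 2, 0, 0, 3, 3, 1, 1, 1, 3, 1, 1, 2, 0, 2, 0], [0, 0, 3, 1, 3, 1, 3, 0, 0, 3, 3, 1, 1, 1]⟩,
  ⟨7, 7, 11, [0, 2, 1, 1, 2, 2, 0], [3, 1, 1, 1, 1, 1, 2, 2, 1],
    [2, 1, 3, 0, 3, 1, 3, 0, 3, 1, 2, 0, 3], [0, 2, 2, 0, 3, 3, 1, 2, 1, 1, 1, 2, 0, 0, 0]⟩,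
  ⟨7, 7, 23, [1, 2, 2, 1, 2, 0, 3], [3, 1, 2, 2, 0, 2, 1, 3, 1],
    [3, 0, 3, 1, 3, 3, 1, 3, 1, 3, 0, 3, 0, 3, 1], [1, 1, 2, 0, 3, 1, 1, 1, 2, 1, 2, 1, 3, 1]⟩,
  ⟨7, 11, 11, [3, 3, 0, 3, 0, 2], [1, 1, 3, 1, 2, 0, 0, 2],
    [1, 1, 3, 3, 0, 3, 3, 0, 3, 1, 1, 3, 0, 3, 1], [2, 2, 0, 3, 3, 0, 2, 1, 3, 0, 0, 2, 1, 1, 3]⟩,
  ⟨7, 11, 23, [1, 3, 1, 1, 1, 1, 2], [1, 2, 2, 1, 1, 2, 2, 0, 3],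
    [1, 3, 1, 1, 3, 1, 3, 3, 3, 0, 3, 3, 3, 0, 3], [1, 2, 0, 0, 3, 1, 2, 1, 2, 2, 0, 2, 2, 0, 3, 0]⟩,
  ⟨7, 23, 23, [0, 2, 0, 2, 0], [0, 3, 1, 2, 2, 0, 2, 2, 1],
    [1, 1, 2, 2, 1, 1, 3, 0, 2, 0, 2, 0, 0, 3], [0, 0, 0, 3, 1, 1, 3, 1, 2, 2]⟩,
  ⟨11, 11, 11, [0, 3, 0, 3, 3, 0, 3], [0, 0, 2, 1, 3, 0, 3, 1, 2],
    [1, 2, 0, 0, 0, 2, 1, 2, 2, 2, 0, 0, 3], [0, 0, 0, 0, 2, 2, 0, 2, 1, 3, 0, 0, 2, 0, 2]⟩,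
  ⟨11, 11, 23, [0, 3, 1, 2, 1, 1], [1, 1, 3, 1, 3, 3, 0, 2, 0],
    [0, 2, 0, 0, 2, 1, 3, 3, 1, 3, 0, 2, 0, 2, 0, 2], [0, 2, 0, 0, 3, 3, 1, 3, 0, 2, 1, 3, 0, 3]⟩,
  ⟨11, 23, 23, [2, 1, 1, 2, 2, 1], [1, 3, 0, 3, 0, 3, 3, 0],
    [0, 3, 3, 0, 3, 3, 1, 2, 2, 2, 2, 0, 2, 0], [0, 0, 0, 2, 1, 3, 3, 1, 2, 0, 0, 0, 3, 0, 0]⟩,
  ⟨23, 23, 23, [0, 0, 0, 2, 2, 1, 3], [2, 0, 2, 0, 2, 1, 1, 2, 0],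
    [1, 1, 2, 0, 3, 1, 2, 2, 0, 0, 0, 3, 3, 0, 2], [1, 1, 3, 1, 1, 2, 2, 2, 2, 1, 3, 3, 1, 2]⟩]

def sylGens2 : List (List ℕ) := [[0, 0, 2, 0, 0, 2, 0, 0, 0, 3, 3, 1], [1, 1, 1, 1, 2, 0, 0, 2, 1, 1, 2, 2, 1, 1, 2], [1, 2, 1, 2, 1, 3, 1, 3, 0, 0, 0, 0, 3, 0, 2, 2]]

def sylWords2 : List (List ℕ) := [
  [],
  [0],
  [1],
  [2],
  [1, 0],
  [2, 0],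
  [0, 1],
  [1, 1],
  [2, 1],
  [0, 2],
  [1, 2],
  [0, 1, 0],
  [1, 1, 0],
  [2, 1, 0],
  [0, 2, 0],
  [1, 2, 0],
  [1, 0, 1],
  [2, 0, 1],
  [0, 1, 1],
  [1, 1, 1],
  [2, 1, 1],
  [0, 2, 1],
  [1, 0, 2],
  [2, 0, 2],
  [0, 1, 2],
  [1, 0, 1, 0],
  [2, 0, 1, 0],
  [0, 1, 1, 0],
  [1, 1, 1, 0],
  [2, 1, 1, 0],
  [0, 2, 1, 0],
  [1, 0, 2, 0],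
  [2, 0, 2, 0],
  [0, 1, 2, 0],
  [0, 1, 0, 1],
  [1, 1, 0, 1],
  [2, 1, 0, 1],
  [1, 2, 0, 1],
  [1, 0, 1, 1],
  [2, 0, 1, 1],
  [0, 1, 1, 1],
  [0, 2, 1, 1],
  [1, 0, 2, 1],
  [2, 0, 2, 1],
  [1, 1, 0, 2],
  [2, 1, 0, 2],
  [0, 2, 0, 2],
  [1, 2, 0, 2],
  [1, 0, 1, 2],
  [2, 0, 1, 2],
  [0, 1, 0, 1, 0],
  [1, 1, 0, 1, 0],
  [2, 1, 0, 1, 0],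
  [1, 2, 0, 1, 0],
  [1, 0, 1, 1, 0],
  [2, 0, 1, 1, 0],
  [0, 1, 1, 1, 0],
  [0, 2, 1, 1, 0],
  [1, 0, 2, 1, 0],
  [2, 0, 2, 1, 0],
  [1, 1, 0, 2, 0],
  [2, 1, 0, 2, 0],
  [0, 2, 0, 2, 0],
  [1, 2, 0, 2, 0],
  [1, 0, 1, 2, 0],
  [2, 0, 1, 2, 0],
  [2, 0, 1, 0, 1],
  [1, 1, 1, 0, 1],
  [2, 1, 1, 0, 1],
  [0, 2, 1, 0, 1],
  [0, 1, 2, 0, 1],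
  [1, 1, 0, 1, 1],
  [2, 1, 0, 1, 1],
  [1, 2, 0, 1, 1],
  [1, 0, 1, 1, 1],
  [2, 0, 1, 1, 1],
  [1, 0, 2, 1, 1],
  [2, 0, 2, 1, 1],
  [1, 1, 0, 2, 1],
  [2, 1, 0, 2, 1],
  [0, 2, 0, 2, 1],
  [1, 2, 0, 2, 1],
  [1, 1, 1, 0, 2],
  [2, 1, 1, 0, 2],
  [0, 2, 1, 0, 2],
  [1, 0, 2, 0, 2],
  [0, 1, 2, 0, 2],
  [0, 1, 0, 1, 2],
  [1, 1, 0, 1, 2],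
  [2, 1, 0, 1, 2],
  [1, 2, 0, 1, 2],
  [2, 0, 1, 0, 1, 0],
  [1, 1, 1, 0, 1, 0],
  [2, 1, 1, 0, 1, 0],
  [0, 2, 1, 0, 1, 0],
  [0, 1, 2, 0, 1, 0],
  [1, 1, 0, 1, 1, 0],
  [2, 1, 0, 1, 1, 0],
  [1, 2, 0, 1, 1, 0],
  [1, 0, 1, 1, 1, 0],
  [2, 0, 1, 1, 1, 0],
  [1, 0, 2, 1, 1, 0],
  [2, 0, 2, 1, 1, 0],
  [1, 1, 0, 2, 1, 0],
  [2, 1, 0, 2, 1, 0],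
  [0, 2, 0, 2, 1, 0],
  [1, 2, 0, 2, 1, 0],
  [1, 1, 1, 0, 2, 0],
  [2, 1, 1, 0, 2, 0],
  [0, 2, 1, 0, 2, 0],
  [1, 0, 2, 0, 2, 0],
  [0, 1, 2, 0, 2, 0],
  [0, 1, 0, 1, 2, 0],
  [1, 1, 0, 1, 2, 0],
  [2, 1, 0, 1, 2, 0],
  [1, 2, 0, 1, 2, 0],
  [1, 2, 0, 1, 0, 1],
  [1, 1, 1, 0, 1, 1],
  [2, 1, 1, 0, 1, 1],
  [1, 1, 0, 1, 1, 1],
  [1, 1, 0, 2, 1, 1],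
  [2, 1, 0, 2, 0, 2],
  [1, 2, 0, 1, 0, 1, 0],
  [1, 1, 1, 0, 1, 1, 0],
  [2, 1, 1, 0, 1, 1, 0],
  [1, 1, 0, 1, 1, 1, 0],
  [1, 1, 0, 2, 1, 1, 0],
  [2, 1, 0, 2, 0, 2, 0]]

def sylGens3 : List (List ℕ) := [[0, 2, 0, 2], [0, 0, 2, 2, 0, 2, 0, 3, 0, 3, 1, 1, 3, 0, 3, 3]]

def sylWords3 : List (List ℕ) := [
  [],
  [0],
  [1],
  [0, 0],
  [1, 0],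
  [1, 1],
  [1, 0, 0],
  [1, 1, 0],
  [1, 1, 0, 0]]

def sylGens5 : List (List ℕ) := [[2]]

def sylWords5 : List (List ℕ) := [
  [],
  [0],
  [0, 0],
  [0, 0, 0],
  [0, 0, 0, 0]]

def sylGens7 : List (List ℕ) := [[0, 0, 2]]

def sylWords7 : List (List ℕ) := [
  [],
  [0],
  [0, 0],
  [0, 0, 0],
  [0, 0, 0, 0],
  [0, 0, 0, 0, 0],
  [0, 0, 0, 0, 0, 0]]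

def sylGens11 : List (List ℕ) := [[0, 2, 0, 3]]

def sylWords11 : List (List ℕ) := [
  [],
  [0],
  [0, 0],
  [0, 0, 0],
  [0, 0, 0, 0],
  [0, 0, 0, 0, 0],
  [0, 0, 0, 0, 0, 0],
  [0, 0, 0, 0, 0, 0, 0],
  [0, 0, 0, 0, 0, 0, 0, 0],
  [0, 0, 0, 0, 0, 0, 0, 0, 0],
  [0, 0, 0, 0, 0, 0, 0, 0, 0, 0]]

def sylGens23 : List (List ℕ) := [[0]]

def sylWords23 : List (List ℕ) := [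
  [],
  [0],
  [0, 0],
  [0, 0, 0],
  [0, 0, 0, 0],
  [0, 0, 0, 0, 0],
  [0, 0, 0, 0, 0, 0],
  [0, 0, 0, 0, 0, 0, 0],
  [0, 0, 0, 0, 0, 0, 0, 0],
  [0, 0, 0, 0, 0, 0, 0, 0, 0],
  [0, 0, 0, 0, 0, 0, 0, 0, 0, 0],
  [0, 0, 0, 0, 0, 0, 0, 0, 0, 0, 0],
  [0, 0, 0, 0, 0, 0, 0, 0, 0, 0, 0, 0],
  [0, 0, 0, 0, 0, 0, 0, 0, 0, 0, 0, 0, 0],
  [0, 0, 0, 0, 0, 0, 0, 0, 0, 0, 0, 0, 0, 0],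
  [0, 0, 0, 0, 0, 0, 0, 0, 0, 0, 0, 0, 0, 0, 0],
  [0, 0, 0, 0, 0, 0, 0, 0, 0, 0, 0, 0, 0, 0, 0, 0],
  [0, 0, 0, 0, 0, 0, 0, 0, 0, 0, 0, 0, 0, 0, 0, 0, 0],
  [0, 0, 0, 0, 0, 0, 0, 0, 0, 0, 0, 0, 0, 0, 0, 0, 0, 0],
  [0, 0, 0, 0, 0, 0, 0, 0, 0, 0, 0, 0, 0, 0, 0, 0, 0, 0, 0],
  [0, 0, 0, 0, 0, 0, 0, 0, 0, 0, 0, 0, 0, 0, 0, 0, 0, 0, 0, 0],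
  [0, 0, 0, 0, 0, 0, 0, 0, 0, 0, 0, 0, 0, 0, 0, 0, 0, 0, 0, 0, 0],
  [0, 0, 0, 0, 0, 0, 0, 0, 0, 0, 0, 0, 0, 0, 0, 0, 0, 0, 0, 0, 0, 0]]

end CfsgLib.M23Gen
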